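import Groth.Agent.Lib.RedTotal.Branches
import Groth.Agent.Lib.DeltaFlat4.Local
import Mathlib

/-! One-dimensional reduced rings with minimal delta invariant. -/

set_option autoImplicit false
set_option linter.style.haveILetI false
universe u

open IsLocalRing GrothLib.SemiLoc

namespace GrothLib.Wedge4

theorem isDVR_localization (A : Type u) [CommRing A] [IsLocalRing A] [IsReduced A] [IsNoetherianRing A]
    (hdim : ringKrullDim A = 1) [Module.Finite A (integralClosure A (FractionRing A))]
    (hnorm : ∀ p : PrimeSpectrum (integralClosure A (FractionRing A)),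
      IsDomain (Localization.AtPrime p.asIdeal) ∧ IsIntegrallyClosed (Localization.AtPrime p.asIdeal))
    (n₀ : Ideal (integralClosure A (FractionRing A))) [n₀.IsMaximal] :
    ∃ _ : IsDomain (Localization.AtPrime n₀), IsDiscreteValuationRing (Localization.AtPrime n₀) := by
  classical
  haveI : Ring.KrullDimLE 1 A := Ring.krullDimLE_iff.mpr hdim.le
  let M := integralClosure A (FractionRing A)
  obtain ⟨d, hdm, hd⟩ : ∃ d ∈ maximalIdeal A, d ∈ nonZeroDivisors A := by
    by_contra! h
    have hfin : (minimalPrimes A).Finite := minimalPrimes.finite_of_isNoetherianRing A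
    have hsub : (maximalIdeal A : Set A) ⊆ ⋃ p ∈ hfin.toFinset, (p : Set A) := fun x hx => by
      have := h x hx
      rw [RedTotal.mem_nonZeroDivisors_iff] at this
      push Not at this
      obtain ⟨p, hp⟩ := this
      exact Set.mem_biUnion (hfin.mem_toFinset.2 p.2) hp
    obtain ⟨p, hp, hle⟩ := (Ideal.subset_union_prime ⊥ ⊥ fun p hp _ _ =>
      (hfin.mem_toFinset.1 hp).1.1).1 hsub
    have hp' := hfin.mem_toFinset.1 hp
    haveI := hp'.1.1
    have e : p = maximalIdeal A := ((maximalIdeal.isMaximal A).eq_of_le hp'.1.1.ne_top hle).symm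
    have h0 : (maximalIdeal A).height = 0 := by rw [Ideal.height_eq_zero_iff]; exact e ▸ hp'
    rw [← IsLocalRing.maximalIdeal_height_eq_ringKrullDim, h0] at hdim
    exact absurd hdim (by norm_num)
  haveI : IsNoetherianRing M := IsNoetherianRing.of_finite A M
  haveI : Algebra.IsIntegral A M := Algebra.IsIntegral.of_finite A M
  have hn₀A : n₀.comap (algebraMap A M) = maximalIdeal A :=
    IsLocalRing.eq_maximalIdeal (Ideal.isMaximal_comap_of_isIntegral_of_isMaximal n₀)
  obtain ⟨hdom, hic⟩ := hnorm ⟨n₀, inferInstance⟩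
  let O := Localization.AtPrime n₀
  haveI : IsDomain O := hdom
  haveI : IsIntegrallyClosed O := hic
  haveI : IsNoetherianRing O := IsLocalization.isNoetherianRing n₀.primeCompl O inferInstance
  have hdn₀ : algebraMap A M d ∈ n₀ := (SetLike.ext_iff.1 hn₀A d).2 hdm
  have hheight₀ : n₀.height ≤ 1 := DeltaFlat4.height_le_one_of_mem hdn₀ fun P hP hdP => by
    haveI : (P.comap (algebraMap A M)).IsMaximal := by
      rcases Ring.krullDimLE_one_iff.1 ‹_› _ (Ideal.IsPrime.comap (algebraMap A M) (K := P)) with h | h
      · exact absurd hd (notMem_nonZeroDivisors_of_mem_mem_minimalPrimes hdP h)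
      · exact h
    exact Ideal.isMaximal_of_isIntegral_of_isMaximal_comap (R := A) P ‹(P.comap (algebraMap A M)).IsMaximal›
  have hdM : algebraMap A M d ∈ nonZeroDivisors M := mem_nonZeroDivisors_iff_right.2 fun x hx => by
    apply Subtype.ext
    exact ((IsLocalization.map_units (FractionRing A) (⟨d, hd⟩ : nonZeroDivisors A)).mul_left_eq_zero).1
      (congrArg Subtype.val hx)
  have hdO : algebraMap M O (algebraMap A M d) ≠ 0 := fun h => by
    rw [← map_zero (algebraMap M O), IsLocalization.eq_iff_exists n₀.primeCompl] at h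
    obtain ⟨c, hc⟩ := h
    rw [mul_zero] at hc
    exact c.2 ((mul_right_mem_nonZeroDivisors_eq_zero_iff hdM).1 hc ▸ n₀.zero_mem)
  have hOF : ¬ IsField O := fun h => hdO (Ideal.mem_bot.1 (IsLocalRing.isField_iff_maximalIdeal_eq.1 h ▸
    (IsLocalization.AtPrime.to_map_mem_maximal_iff O n₀ _).2 hdn₀))
  haveI : Ring.KrullDimLE 1 O := Ring.krullDimLE_iff.2 (by
    rw [IsLocalization.AtPrime.ringKrullDim_eq_height n₀ O]
    exact_mod_cast hheight₀)
  haveI : Ring.DimensionLEOne O := ⟨fun {P} hP0 hP => by
    rcases Ring.krullDimLE_one_iff.1 ‹_› P hP with h | h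
    · rw [IsDomain.minimalPrimes_eq_singleton_bot] at h
      exact absurd h hP0
    · exact h⟩
  haveI : IsDedekindDomain O := {}
  exact ⟨inferInstance, ((IsDiscreteValuationRing.TFAE O hOF).out 0 2 :
    IsDiscreteValuationRing O ↔ IsDedekindDomain O).2 inferInstance⟩

/-- Over a separably closed residue field there is at most one embedding. -/
theorem card_hom_le_one (A : Type u) [CommRing A] [IsLocalRing A] [IsSepClosed (ResidueField A)]
    (B : Type u) [CommRing B] [Algebra A B] [Module.Finite A B] [IsNoetherianRing A]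
    (m : MaximalSpectrum B) :
    ENat.card {σ : B ⧸ m.asIdeal →+* AlgebraicClosure (ResidueField A) //
        σ.comp (algebraMap A (B ⧸ m.asIdeal)) =
          (algebraMap (ResidueField A) (AlgebraicClosure (ResidueField A))).comp (residue A)} ≤ 1 := by
  have := m.isMaximal
  let _ := Ideal.Quotient.field m.asIdeal
  let _ : Algebra (ResidueField A) (B ⧸ m.asIdeal) :=
    (Ideal.Quotient.lift (maximalIdeal A) (algebraMap A (B ⧸ m.asIdeal)) fun a ha =>
      Ideal.Quotient.eq_zero_iff_mem.mpr ((RedTotal.maximalIdeal_le_comap A B m).ge ha)).toAlgebra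
  have : IsScalarTower A (ResidueField A) (B ⧸ m.asIdeal) := IsScalarTower.of_algebraMap_eq fun _ => rfl
  have : Module.Finite (ResidueField A) (B ⧸ m.asIdeal) := Module.Finite.of_restrictScalars_finite A _ _
  have : IsPurelyInseparable (ResidueField A) (B ⧸ m.asIdeal) :=
    Algebra.IsAlgebraic.isPurelyInseparable_of_isSepClosed
  rw [ENat.card_le_one_iff_subsingleton]
  refine ⟨fun σ τ => Subtype.ext ?_⟩
  let mkHom (σ : {σ : B ⧸ m.asIdeal →+* AlgebraicClosure (ResidueField A) //
      σ.comp (algebraMap A (B ⧸ m.asIdeal)) =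
        (algebraMap (ResidueField A) (AlgebraicClosure (ResidueField A))).comp (residue A)}) :
      (B ⧸ m.asIdeal) →ₐ[ResidueField A] AlgebraicClosure (ResidueField A) :=
    AlgHom.mk σ.1 fun r => by
      obtain ⟨a, rfl⟩ := residue_surjective (R := A) r
      exact RingHom.congr_fun σ.2 a
  exact congrArg AlgHom.toRingHom (Subsingleton.elim (mkHom σ) (mkHom τ))

/-- The number of geometric branches is at most the number of maximal ideals of the normalization when
the residue field is separably closed. -/
theorem numGeomBranches_le_card (A : Type u) [CommRing A] [IsLocalRing A] [IsReduced A]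
    [IsNoetherianRing A] [Module.Finite A (integralClosure A (FractionRing A))]
    [IsSepClosed (ResidueField A)] :
    Brnch.numGeomBranches A ≤ ENat.card (MaximalSpectrum (integralClosure A (FractionRing A))) := by
  classical
  obtain ⟨Φ, hΦ⟩ := RedTotal.exists_equiv_normRed A
  rw [Brnch.numGeomBranches, if_pos (RedTotal.finite_minimalPrimes A)]
  let M : MaximalSpectrum (CAlg2.normRed A) → MaximalSpectrum (integralClosure A (FractionRing A)) := fun m =>
    ⟨m.asIdeal.map Φ.toRingHom, haveI := m.isMaximal; Ideal.map_isMaximal_of_equiv Φ⟩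
  have hM : Function.Injective M := fun m m' h => MaximalSpectrum.ext
    (by
      have h' := congrArg (Ideal.comap Φ.toRingHom) (congrArg MaximalSpectrum.asIdeal h)
      exact ((Ideal.comap_map_of_bijective Φ.toRingHom Φ.bijective).symm.trans h').trans
        (Ideal.comap_map_of_bijective Φ.toRingHom Φ.bijective))
  have hsub : ∀ m, Subsingleton (Brnch.Emb A m) := fun m => by
    refine ⟨fun σ τ => ?_⟩
    have key : ∀ σ : Brnch.Emb A m,
        (σ.1.comp (Ideal.quotientEquiv m.asIdeal (M m).asIdeal Φ rfl).symm.toRingHom).comp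
          (algebraMap A (integralClosure A (FractionRing A) ⧸ (M m).asIdeal)) =
        (algebraMap (ResidueField A) (AlgebraicClosure (ResidueField A))).comp (residue A) := fun σ => by
      refine RingHom.ext fun a => ?_
      show σ.1 ((Ideal.quotientEquiv m.asIdeal (M m).asIdeal Φ rfl).symm
        (Ideal.Quotient.mk _ (algebraMap A _ a))) = _
      refine Eq.trans (congrArg σ.1 ?_) (RingHom.congr_fun σ.2 a)
      refine (Ideal.quotientEquiv m.asIdeal (M m).asIdeal Φ rfl).injective ?_
      rw [RingEquiv.apply_symm_apply, ← hΦ a]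
      rfl
    have h := congrArg Subtype.val (((ENat.card_le_one_iff_subsingleton _).1
      (card_hom_le_one A (integralClosure A (FractionRing A)) (M m))).elim ⟨_, key σ⟩ ⟨_, key τ⟩)
    refine Subtype.ext (RingHom.ext fun c => ?_)
    have h3 := RingHom.congr_fun h (Ideal.quotientEquiv m.asIdeal (M m).asIdeal Φ rfl c)
    have h4 := (Ideal.quotientEquiv m.asIdeal (M m).asIdeal Φ rfl).symm_apply_apply c
    exact ((congrArg σ.1 h4.symm).trans h3).trans (congrArg τ.1 h4)
  refine ENat.card_le_card_of_injective (f := fun x : Σ m', Brnch.Emb A m' => M x.1) ?_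
  rintro ⟨m, σ⟩ ⟨m', σ'⟩ h
  obtain rfl : m = m' := hM h
  exact congrArg (Sigma.mk m) ((hsub m).elim σ σ')

/-- Numerical consequences of `δ + 1 = n`. -/
theorem bijective_and_jacobson_le (A : Type u) [CommRing A] [IsLocalRing A] [IsNoetherianRing A]
    (B : Type u) [CommRing B] [Algebra A B] [Module.Finite A B] [Fintype (MaximalSpectrum B)]
    (h : Module.length A (B ⧸ LinearMap.range (Algebra.linearMap A B)) + 1 ≤
      (Fintype.card (MaximalSpectrum B) : ℕ∞)) :
    (∀ m : MaximalSpectrum B, Function.Surjective (algebraMap A (B ⧸ m.asIdeal))) ∧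
      ∀ b : B, (∀ m : MaximalSpectrum B, b ∈ m.asIdeal) → b ∈ LinearMap.range (Algebra.linearMap A B) := by
  classical
  let P := ∀ m : MaximalSpectrum B, B ⧸ m.asIdeal
  let π : B →ₗ[A] P := LinearMap.pi fun m => (Ideal.Quotient.mkₐ A m.asIdeal).toLinearMap
  have hπ : Function.Surjective π := fun y => by
    obtain ⟨x, hx⟩ := Ideal.quotientInfToPiQuotient_surj (I := fun m : MaximalSpectrum B => m.asIdeal)
      (fun m m' hne => Ideal.isCoprime_iff_sup_eq.mpr
        (m.isMaximal.coprime_of_ne m'.isMaximal fun h => hne (MaximalSpectrum.ext h))) y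
    obtain ⟨b, rfl⟩ := Ideal.Quotient.mk_surjective x
    exact ⟨b, hx⟩
  let R₀ : Submodule A P := (LinearMap.range (Algebra.linearMap A B)).map π
  let R := LinearMap.range (Algebra.linearMap A B)
  let R' := R₀.comap π
  have hRR' : R ≤ R' := Submodule.le_comap_map _ _
  have hlen1 : (1 : ℕ∞) ≤ 1 := le_rfl
  have hR₀ : Module.length A R₀ ≤ 1 := by
    let g : ResidueField A →ₗ[A] R₀ := Submodule.liftQ (maximalIdeal A)
      ((π.comp (Algebra.linearMap A B)).codRestrict R₀ fun a => ⟨_, LinearMap.mem_range_self _ a, rfl⟩)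
      fun a ha => by
        refine Subtype.ext (funext fun m => ?_)
        exact Ideal.Quotient.eq_zero_iff_mem.mpr ((RedTotal.maximalIdeal_le_comap A B m).ge ha)
    have hg : Function.Surjective g := by
      rintro ⟨y, _, ⟨a, rfl⟩, rfl⟩
      exact ⟨residue A a, rfl⟩
    refine (Module.length_le_of_surjective g hg).trans_eq ?_
    rw [Module.length_eq_of_surjective (R := ResidueField A) (S := A) (M := ResidueField A)
      (residue_surjective (R := A)), Module.length_eq_finrank, Module.finrank_self, Nat.cast_one]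
  have hone : ∀ m : MaximalSpectrum B, 1 ≤ Module.length A (B ⧸ m.asIdeal) := fun m => by
    refine ENat.one_le_iff_ne_zero.2 fun h0 => ?_
    rw [Module.length_eq_zero_iff] at h0
    exact m.isMaximal.ne_top (Ideal.Quotient.subsingleton_iff.1 h0)
  let σ : B ⧸ R →ₗ[A] P ⧸ R₀ := Submodule.mapQ R R₀ π (Submodule.le_comap_map _ _)
  have hσ : Function.Surjective σ := fun y => by
    obtain ⟨y, rfl⟩ := Submodule.mkQ_surjective _ y
    obtain ⟨b, rfl⟩ := hπ y
    exact ⟨Submodule.Quotient.mk b, rfl⟩
  have hsum : ∑ m : MaximalSpectrum B, Module.length A (B ⧸ m.asIdeal) + Module.length A (LinearMap.ker σ) ≤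
      (Fintype.card (MaximalSpectrum B) : ℕ∞) := by
    refine le_trans ?_ h
    rw [← Module.length_pi_of_fintype, Module.length_eq_add_of_exact R₀.subtype R₀.mkQ R₀.injective_subtype
      R₀.mkQ_surjective (LinearMap.exact_subtype_mkQ R₀),
      Module.length_eq_add_of_exact (LinearMap.ker σ).subtype σ (Submodule.injective_subtype _) hσ
      (LinearMap.exact_subtype_ker_map σ)]
    calc Module.length A R₀ + Module.length A (P ⧸ R₀) + Module.length A (LinearMap.ker σ)
        ≤ 1 + Module.length A (P ⧸ R₀) + Module.length A (LinearMap.ker σ) := by gcongr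
      _ = Module.length A (LinearMap.ker σ) + Module.length A (P ⧸ R₀) + 1 := by ring
  have hcard : (Fintype.card (MaximalSpectrum B) : ℕ∞) = ∑ _m : MaximalSpectrum B, 1 := by simp
  have hsum' : ∑ m : MaximalSpectrum B, Module.length A (B ⧸ m.asIdeal) ≤
      ∑ _m : MaximalSpectrum B, (1 : ℕ∞) := hcard ▸ le_self_add.trans hsum
  have heq : ∀ m : MaximalSpectrum B, Module.length A (B ⧸ m.asIdeal) = 1 := fun m => by
    refine le_antisymm (not_lt.1 fun hlt => ?_) (hone m)
    have hlt' : ∑ _m : MaximalSpectrum B, (1 : ℕ∞) < ∑ m : MaximalSpectrum B, Module.length A (B ⧸ m.asIdeal) := by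
      rw [← Finset.sum_erase_add _ _ (Finset.mem_univ m), ← Finset.sum_erase_add _ _ (Finset.mem_univ m)]
      exact (ENat.add_lt_add_iff_left (by simp)).2 hlt |>.trans_le
        (add_le_add (Finset.sum_le_sum fun i _ => hone i) le_rfl)
    exact absurd hsum' (not_le.2 hlt')
  constructor
  · intro m
    haveI : IsSimpleModule A (B ⧸ m.asIdeal) := Module.length_eq_one_iff.1 (heq m)
    have hr : LinearMap.range (Algebra.linearMap A (B ⧸ m.asIdeal)) = ⊤ :=
      (eq_bot_or_eq_top _).resolve_left fun h0 => by
        have h1 : (1 : B ⧸ m.asIdeal) ∈ LinearMap.range (Algebra.linearMap A (B ⧸ m.asIdeal)) :=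
          ⟨1, map_one (algebraMap A (B ⧸ m.asIdeal))⟩
        rw [h0, Submodule.mem_bot] at h1
        exact m.isMaximal.ne_top ((Ideal.eq_top_iff_one _).2 (Ideal.Quotient.eq_zero_iff_mem.1
          (by rw [map_one]; exact h1)))
    exact LinearMap.range_eq_top.1 hr
  · intro b hb
    rw [show ∑ m : MaximalSpectrum B, Module.length A (B ⧸ m.asIdeal) = (Fintype.card (MaximalSpectrum B) : ℕ∞) by
      rw [hcard]; exact Finset.sum_congr rfl fun m _ => heq m] at hsum
    have hk : Module.length A (LinearMap.ker σ) = 0 := by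
      have := (ENat.add_le_add_iff_left (ENat.coe_ne_top _)).1 (hsum.trans_eq (add_zero _).symm)
      exact nonpos_iff_eq_zero.1 this
    rw [Module.length_eq_zero_iff] at hk
    have hmem : (Submodule.Quotient.mk b : B ⧸ R) ∈ LinearMap.ker σ := by
      rw [LinearMap.mem_ker]
      refine (Submodule.Quotient.mk_eq_zero _).2 ?_
      rw [show π b = 0 from funext fun m => Ideal.Quotient.eq_zero_iff_mem.2 (hb m)]
      exact zero_mem _
    exact (Submodule.Quotient.mk_eq_zero _).1
      (congrArg Subtype.val (Subsingleton.elim (⟨_, hmem⟩ : LinearMap.ker σ) 0))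

end GrothLib.Wedge4
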